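import Groth.Agent.Lib.GrpSchField.ReducedProd
import Mathlib.RingTheory.Nilpotent.GeometricallyReduced
import Mathlib.RingTheory.TensorProduct.Free
import Mathlib.LinearAlgebra.Basis.VectorSpace

/-!
# Invariant subfields are separating

A field extension `L/F` such that `F` is cut out by pairs of homomorphisms `L ⇉ E i`, the second of
which is geometrically reduced, stays reduced after every extension of `F`.
-/

set_option autoImplicit false
set_option backward.isDefEq.respectTransparency false

universe u

open TensorProduct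

namespace GrothLib.GeomQuotFib21

variable {F L Ω : Type u} [Field F] [Field L] [Algebra F L] [Field Ω] [Algebra F Ω]

theorem isReduced_tensor_of_equalizer {ι : Type*} {E : ι → Type u} [∀ i, CommRing (E i)]
    (a p : ∀ i, L →+* E i) (hF : ∀ i c, a i (algebraMap F L c) = p i (algebraMap F L c))
    (hp : ∀ i, @Algebra.IsGeometricallyReduced L (E i) _ _ (p i).toAlgebra)
    (heq : ∀ f : L, (∀ i, a i f = p i f) → f ∈ (algebraMap F L).range) :
    IsReduced (L ⊗[F] Ω) := by
  classical
  let A := L ⊗[F] Ω
  let v := Module.Basis.ofVectorSpace F Ω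
  let b := Algebra.TensorProduct.basis L v
  by_contra hred
  have hex : ∃ k : ℕ, ∃ n : A, IsNilpotent n ∧ n ≠ 0 ∧ (b.repr n).support.card = k := by
    by_contra h
    exact hred ⟨fun n hn => by_contra fun h0 => h ⟨_, n, hn, h0, rfl⟩⟩
  obtain ⟨n₀, hn₀, hn₀0, hk₀⟩ := Nat.find_spec hex
  have hmin : ∀ n : A, IsNilpotent n → n ≠ 0 → Nat.find hex ≤ (b.repr n).support.card :=
    fun n h1 h2 => Nat.find_le ⟨n, h1, h2, rfl⟩
  obtain ⟨j, hj⟩ : (b.repr n₀).support.Nonempty := by
    rw [Finsupp.support_nonempty_iff]
    exact fun h => hn₀0 (b.repr.injective (h.trans (map_zero b.repr).symm))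
  have hj0 : b.repr n₀ j ≠ 0 := Finsupp.mem_support_iff.1 hj
  -- normalise
  let n : A := (b.repr n₀ j)⁻¹ • n₀
  have hnnil : IsNilpotent n := hn₀.smul _
  have hsupp : (b.repr n).support = (b.repr n₀).support := by
    rw [map_smul, Finsupp.support_smul_eq (inv_ne_zero hj0)]
  have hn0 : n ≠ 0 := smul_ne_zero (inv_ne_zero hj0) hn₀0
  have hnj : b.repr n j = 1 := by
    rw [map_smul, Finsupp.smul_apply, smul_eq_mul, inv_mul_cancel₀ hj0]
  -- elements supported away from `j` inside the support of `n` are not nilpotent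
  let s : Finset _ := (b.repr n).support.erase j
  let J : Ideal A := nilradical A
  let incl : (s → L) →ₗ[L] A ⧸ J :=
    (Ideal.Quotient.mkₐ L J).toLinearMap ∘ₗ Fintype.linearCombination L (fun i : s => b i)
  have hincl : LinearMap.ker incl = ⊥ := by
    rw [LinearMap.ker_eq_bot']
    intro g hg
    by_contra hg0
    let x : A := Fintype.linearCombination L (fun i : s => b i) g
    have hx : IsNilpotent x := mem_nilradical.1 (Ideal.Quotient.eq_zero_iff_mem.1 hg)
    have hrepr : ∀ k, b.repr x k = if h : k ∈ s then g ⟨k, h⟩ else 0 := by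
      intro k
      simp only [x, Fintype.linearCombination_apply, map_sum, map_smul, Finsupp.finsetSum_apply,
        Finsupp.smul_apply, Module.Basis.repr_self, smul_eq_mul]
      split_ifs with h
      · rw [Finset.sum_eq_single (⟨k, h⟩ : s)]
        · simp
        · intro i _ hi
          rw [Finsupp.single_apply, if_neg, MulZeroClass.mul_zero]
          exact fun e => hi (Subtype.ext e)
        · simp
      · refine Finset.sum_eq_zero fun i _ => ?_
        rw [Finsupp.single_apply, if_neg, MulZeroClass.mul_zero]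
        exact fun (e : (i : _) = k) => h (e ▸ i.2)
    have hx0 : x ≠ 0 := by
      intro e
      refine hg0 (funext fun i => ?_)
      have := hrepr i
      rw [e, map_zero, Finsupp.zero_apply, dif_pos i.2] at this
      exact this.symm
    have hxs : (b.repr x).support ⊆ s := fun k hk => by
      by_contra h
      exact Finsupp.mem_support_iff.1 hk (by rw [hrepr, dif_neg h])
    have h1 := (hmin x hx hx0).trans (Finset.card_le_card hxs)
    rw [← hk₀, ← hsupp] at h1
    exact absurd (h1.trans_lt (Finset.card_erase_lt_of_mem (hsupp ▸ hj))) (lt_irrefl _)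
  obtain ⟨ρ, hρ⟩ := incl.exists_leftInverse_of_injective hincl
  have hρb : ∀ i : s, ρ (Ideal.Quotient.mk J (b i)) = Pi.single i 1 := by
    intro i
    have h1 : incl (Pi.single i 1) = Ideal.Quotient.mk J (b i) := by
      show Ideal.Quotient.mk J (Fintype.linearCombination L (fun i : s => b i) (Pi.single i 1)) = _
      rw [Fintype.linearCombination_apply_single, one_smul]
    rw [← h1]
    exact LinearMap.congr_fun hρ _
  -- the coordinates of `n` are invariant
  have hc : ∀ k, b.repr n k ∈ (algebraMap F L).range := by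
    intro k
    refine heq _ fun i => ?_
    letI : Algebra L (E i) := (p i).toAlgebra
    haveI : Algebra.IsGeometricallyReduced L (E i) := hp i
    letI : Algebra F (E i) := ((p i).comp (algebraMap F L)).toAlgebra
    haveI : IsScalarTower F L (E i) := IsScalarTower.of_algebraMap_eq fun _ => rfl
    haveI : IsReduced (A ⧸ J) :=
      (Ideal.isRadical_iff_quotient_reduced J).1 (Ideal.radical_isRadical (⊥ : Ideal A))
    haveI : IsReduced ((A ⧸ J) ⊗[L] E i) := GrothLib.GrpSchField.isReduced_tensorProduct
    let q : A →ₐ[L] (A ⧸ J) ⊗[L] E i :=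
      Algebra.TensorProduct.includeLeft.comp (Ideal.Quotient.mkₐ L J)
    let iE : E i →ₐ[L] (A ⧸ J) ⊗[L] E i := Algebra.TensorProduct.includeRight
    let aF : L →ₐ[F] E i := { a i with commutes' := fun c => hF i c }
    let qF : A →ₐ[F] (A ⧸ J) ⊗[L] E i := q.restrictScalars F
    let Q : A →ₐ[F] (A ⧸ J) ⊗[L] E i :=
      Algebra.TensorProduct.productMap (S := (A ⧸ J) ⊗[L] E i) ((iE.restrictScalars F).comp aF)
        (qF.comp Algebra.TensorProduct.includeRight)
    have hQn : Q n = 0 := (hnnil.map Q).eq_zero
    have hqn : q n = 0 := by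
      have : Ideal.Quotient.mk J n = 0 := Ideal.Quotient.eq_zero_iff_mem.2 (mem_nilradical.2 hnnil)
      show Ideal.Quotient.mk J n ⊗ₜ[L] (1 : E i) = 0
      rw [this, zero_tmul]
    -- read off the coordinates
    let Φ : (A ⧸ J) ⊗[L] E i →ₗ[L] (s → L) ⊗[L] E i := ρ.rTensor (E i)
    have hn : n = ∑ l ∈ (b.repr n).support, b.repr n l ⊗ₜ[F] v l := by
      conv_lhs => rw [← b.linearCombination_repr n]
      rw [Finsupp.linearCombination_apply, Finsupp.sum]
      refine Finset.sum_congr rfl fun l _ => ?_
      rw [Algebra.TensorProduct.basis_apply, TensorProduct.smul_tmul', smul_eq_mul, _root_.mul_one]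
    have hQl : ∀ (c : L) l, Q (c ⊗ₜ v l) = Ideal.Quotient.mk J (b l) ⊗ₜ[L] a i c := by
      intro c l
      rw [Algebra.TensorProduct.productMap_apply_tmul, Algebra.TensorProduct.basis_apply]
      show ((1 : A ⧸ J) ⊗ₜ[L] a i c) * (Ideal.Quotient.mk J (1 ⊗ₜ v l) ⊗ₜ[L] (1 : E i)) = _
      rw [Algebra.TensorProduct.tmul_mul_tmul, _root_.one_mul, _root_.mul_one]
    have hql : ∀ (c : L) l, q (c ⊗ₜ v l) = Ideal.Quotient.mk J (b l) ⊗ₜ[L] p i c := by
      intro c l
      have : (c ⊗ₜ[F] v l : A) = c • b l := by
        rw [Algebra.TensorProduct.basis_apply, TensorProduct.smul_tmul', smul_eq_mul, _root_.mul_one]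
      rw [this, map_smul]
      show c • (Ideal.Quotient.mk J (b l) ⊗ₜ[L] (1 : E i)) = _
      rw [← TensorProduct.tmul_smul, Algebra.smul_def, _root_.mul_one]
      rfl
    have hD : ∑ l ∈ (b.repr n).support,
        Ideal.Quotient.mk J (b l) ⊗ₜ[L] (a i (b.repr n l) - p i (b.repr n l)) = 0 := by
      have h1 : Q n - q n = 0 := by rw [hQn, hqn, sub_zero]
      rw [hn, map_sum, map_sum, ← Finset.sum_sub_distrib] at h1
      rw [← h1]
      exact Finset.sum_congr rfl fun l _ => by rw [hQl, hql, tmul_sub]
    by_cases hks : k ∈ (b.repr n).support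
    swap
    · rw [Finsupp.notMem_support_iff.1 hks, map_zero, map_zero]
    by_cases hkj : k = j
    · rw [hkj, hnj, map_one, map_one]
    have hk : k ∈ s := Finset.mem_erase.2 ⟨hkj, hks⟩
    rw [← Finset.sum_erase (s := (b.repr n).support) (a := j)
      (f := fun l => Ideal.Quotient.mk J (b l) ⊗ₜ[L] (a i (b.repr n l) - p i (b.repr n l)))
      (by rw [hnj, map_one, map_one, sub_self, tmul_zero])] at hD
    have h2 := congrArg
      (TensorProduct.lid L (E i) ∘ (LinearMap.proj (⟨k, hk⟩ : s)).rTensor (E i) ∘ Φ) hD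
    simp only [Function.comp_apply, map_sum, map_zero, Φ, LinearMap.rTensor_tmul,
      TensorProduct.lid_tmul, LinearMap.proj_apply] at h2
    rw [Finset.sum_eq_single k] at h2
    · rw [hρb ⟨k, hk⟩, Pi.single_eq_same, one_smul, sub_eq_zero] at h2
      exact h2
    · intro l hl hlk
      rw [hρb ⟨l, hl⟩, Pi.single_eq_of_ne, zero_smul]
      exact fun e => hlk (congrArg Subtype.val e).symm
    · exact fun h => absurd hk h
  -- so `n` comes from `Ω`, which is a field
  choose c hc using hc
  have hn : n = (1 : L) ⊗ₜ[F] (∑ l ∈ (b.repr n).support, c l • v l) := by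
    conv_lhs => rw [← b.linearCombination_repr n]
    rw [Finsupp.linearCombination_apply, Finsupp.sum, TensorProduct.tmul_sum]
    refine Finset.sum_congr rfl fun l _ => ?_
    rw [← hc l, Algebra.TensorProduct.basis_apply, algebraMap_smul, TensorProduct.tmul_smul]
  have hw := hnnil
  rw [hn] at hw
  have hinj : Function.Injective (Algebra.TensorProduct.includeRight (R := F) (A := L) (B := Ω)) :=
    Algebra.TensorProduct.includeRight_injective (algebraMap F L).injective
  rw [show ((1 : L) ⊗ₜ[F] (∑ l ∈ (b.repr n).support, c l • v l) : A) =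
    Algebra.TensorProduct.includeRight (∑ l ∈ (b.repr n).support, c l • v l) from rfl,
    IsNilpotent.map_iff hinj] at hw
  exact hn0 (by rw [hn, hw.eq_zero, tmul_zero])

end GrothLib.GeomQuotFib21
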