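import Groth.Agent.Lib.DiagGrp.ActionTrivial
import Groth.Prelude.Def_W4bk4git07Quot
import Mathlib.AlgebraicGeometry.AlgClosed.Basic
import Mathlib.AlgebraicGeometry.Morphisms.Smooth
import Mathlib.AlgebraicGeometry.Morphisms.LocalFlatDescent
import Mathlib.AlgebraicGeometry.Morphisms.FiniteType
import Mathlib.AlgebraicGeometry.Group.Smooth

/-!
# A reduced geometric fibre of a quotient map with transitive action is smooth
-/

set_option autoImplicit false
set_option linter.style.haveILetI false
set_option backward.isDefEq.respectTransparency false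

universe u

open CategoryTheory CategoryTheory.Limits MonoidalCategory CartesianMonoidalCategory MonObj GrpObj AlgebraicGeometry

noncomputable section

namespace GrothLib.GeomQuotFib21

theorem exists_lift {A B : Scheme.{u}} (f : A ⟶ B) [LocallyOfFiniteType f] (hf : Function.Surjective f.base)
    {Ω : Type u} [Field Ω] [IsAlgClosed Ω] (y : Spec (CommRingCat.of Ω) ⟶ B) :
    ∃ x : Spec (CommRingCat.of Ω) ⟶ A, x ≫ f = y := by
  let q : pullback f y ⟶ Spec (CommRingCat.of Ω) := pullback.snd f y
  haveI : JacobsonSpace ↥(pullback f y) := LocallyOfFiniteType.jacobsonSpace q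
  obtain ⟨x₀, hx₀⟩ := hf (y (IsLocalRing.closedPoint Ω))
  obtain ⟨p₀, -⟩ := Scheme.Pullback.exists_preimage_pullback (f := f) (g := y) x₀ _ hx₀
  obtain ⟨p, -, hp⟩ := nonempty_inter_closedPoints (Z := (Set.univ : Set ↥(pullback f y)))
    ⟨p₀, trivial⟩ isOpen_univ.isLocallyClosed
  refine ⟨pointOfClosedPoint q p hp ≫ pullback.fst f y, ?_⟩
  rw [Category.assoc, pullback.condition, pointOfClosedPoint_comp_assoc, ]

variable {S : Scheme.{u}} {G X Y : Over S} [GrpObj G] {a : AlgGrp.Action G X} {π : X ⟶ Y}
  [LocallyOfFiniteType G.hom] [LocallyOfFiniteType X.hom]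

theorem smooth_geometricFibre (h : GIT.IsGeomQuot a π) {Ω : Type u} [Field Ω] [IsAlgClosed Ω]
    (s : Spec (CommRingCat.of Ω) ⟶ Y.left) [IsReduced (pullback π.left s)] :
    Smooth (pullback.snd π.left s) := by
  haveI : LocallyOfFiniteType π.left := by
    haveI : LocallyOfFiniteType (π.left ≫ Y.hom) := by rw [Over.w π]; infer_instance
    exact locallyOfFiniteType_of_comp π.left Y.hom
  haveI : LocallyOfFiniteType (snd G X).left := by
    show LocallyOfFiniteType (pullback.snd G.hom X.hom)
    infer_instance
  haveI : LocallyOfFiniteType (GIT.PsiY a π h.inv) := by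
    haveI : LocallyOfFiniteType (GIT.PsiY a π h.inv ≫ pullback.snd π.left π.left) := by
      rw [GIT.PsiY, pullback.lift_snd]; infer_instance
    exact locallyOfFiniteType_of_comp (GIT.PsiY a π h.inv) (pullback.snd π.left π.left)
  let f := pullback.snd π.left s
  haveI : JacobsonSpace ↥(pullback π.left s) := LocallyOfFiniteType.jacobsonSpace f
  let Z : Over S := Over.mk (pullback.fst π.left s ≫ X.hom)
  let T : Over S := Over.mk (s ≫ Y.hom)
  let zX : Z ⟶ X := Over.homMk (pullback.fst π.left s) rfl
  let zT : Z ⟶ T := Over.homMk f (by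
    show f ≫ s ≫ Y.hom = pullback.fst π.left s ≫ X.hom
    rw [← Over.w π, pullback.condition_assoc])
  let τ (g : T ⟶ G) : Z ⟶ X := lift (zT ≫ g) zX ≫ a.act
  have hτ : ∀ g, (τ g).left ≫ π.left = f ≫ s := by
    intro g
    have : τ g ≫ π = zX ≫ π := by
      rw [show τ g = lift (zT ≫ g) zX ≫ a.act from rfl, Category.assoc, h.inv, lift_snd_assoc]
    rw [← Over.comp_left, this]
    exact pullback.condition
  let α (g : T ⟶ G) : pullback π.left s ⟶ pullback π.left s := pullback.lift (τ g).left f (hτ g)
  let α' (g : T ⟶ G) : Z ⟶ Z := Over.homMk (α g) (by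
    show α g ≫ pullback.fst π.left s ≫ X.hom = _
    rw [pullback.lift_fst_assoc]
    exact Over.w (τ g))
  have hαX : ∀ g, α' g ≫ zX = τ g := fun g => Over.OverMorphism.ext (pullback.lift_fst _ _ _)
  have hαT : ∀ g, α' g ≫ zT = zT := fun g => Over.OverMorphism.ext (pullback.lift_snd _ _ _)
  have hcomp : ∀ g g', α g ≫ α g' = α (g' * g) := by
    intro g g'
    apply pullback.hom_ext
    · rw [Category.assoc, pullback.lift_fst, pullback.lift_fst]
      have : α' g ≫ τ g' = τ (g' * g) := by
        show α' g ≫ lift (zT ≫ g') zX ≫ a.act = lift (zT ≫ (g' * g)) zX ≫ a.act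
        rw [comp_lift_assoc, hαX, reassoc_of% hαT, MonObj.comp_mul, GrothLib.DiagGrp.act_mul]
      exact congrArg CommaMorphism.left this
    · rw [Category.assoc, pullback.lift_snd, pullback.lift_snd, pullback.lift_snd]
  have hone : α 1 = 𝟙 _ := by
    apply pullback.hom_ext
    · rw [pullback.lift_fst, Category.id_comp]
      have : τ 1 = zX := by
        show lift (zT ≫ 1) zX ≫ a.act = zX
        rw [MonObj.comp_one]
        have h1 : lift (1 : Z ⟶ G) zX = zX ≫ (λ_ X).inv ≫ (η[G] ▷ X) := by
          apply CartesianMonoidalCategory.hom_ext <;> simp [Hom.one_def]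
        rw [h1, Category.assoc, Category.assoc, a.one_act, Iso.inv_hom_id, Category.comp_id]
      exact congrArg CommaMorphism.left this
    · rw [pullback.lift_snd, Category.id_comp]
  let e (g : T ⟶ G) : pullback π.left s ≅ pullback π.left s :=
    ⟨α g, α g⁻¹, by rw [hcomp, inv_mul_cancel, hone], by rw [hcomp, mul_inv_cancel, hone]⟩
  -- the homogeneity argument
  rw [← Scheme.Hom.smoothLocus_eq_top_iff, ← TopologicalSpace.Opens.coe_eq_univ,
    ← not_ne_iff, ← Set.nonempty_compl]
  intro H
  obtain ⟨x, hx, hxc⟩ :=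
    nonempty_inter_closedPoints H f.smoothLocus.2.isClosed_compl.isLocallyClosed
  haveI : Nonempty ↥(pullback π.left s) := ⟨x⟩
  obtain ⟨y, hy : y ∈ f.smoothLocus, hyc⟩ := nonempty_inter_closedPoints
    f.dense_smoothLocus_of_perfectField.nonempty f.smoothLocus.2.isLocallyClosed
  let x' := pointOfClosedPoint f x hxc
  let y' := pointOfClosedPoint f y hyc
  have hxy : (y' ≫ pullback.fst π.left s) ≫ π.left = (x' ≫ pullback.fst π.left s) ≫ π.left := by
    simp only [Category.assoc, pullback.condition]
    rw [pointOfClosedPoint_comp_assoc, pointOfClosedPoint_comp_assoc]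
  obtain ⟨w, hw⟩ := exists_lift (GIT.PsiY a π h.inv) h.orbit (pullback.lift _ _ hxy)
  have hwa : w ≫ a.act.left = y' ≫ pullback.fst π.left s := by
    have := congrArg (· ≫ pullback.fst π.left π.left) hw
    simpa [GIT.PsiY] using this
  have hws : w ≫ (snd G X).left = x' ≫ pullback.fst π.left s := by
    have := congrArg (· ≫ pullback.snd π.left π.left) hw
    simpa [GIT.PsiY] using this
  let g : T ⟶ G := Over.homMk (w ≫ (fst G X).left) (by
    show (w ≫ (fst G X).left) ≫ G.hom = s ≫ Y.hom
    rw [Category.assoc, Over.w, ← Over.w (snd G X), reassoc_of% hws, ← Over.w π,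
      pullback.condition_assoc, pointOfClosedPoint_comp_assoc])
  have hxα : x' ≫ α g = y' := by
    apply pullback.hom_ext
    · rw [Category.assoc, pullback.lift_fst, ← hwa]
      let tZ : T ⟶ Z := Over.homMk x' (by
        show x' ≫ pullback.fst π.left s ≫ X.hom = s ≫ Y.hom
        rw [← Over.w π, pullback.condition_assoc, pointOfClosedPoint_comp_assoc])
      let tW : T ⟶ G ⊗ X := Over.homMk w (by
        show w ≫ (G ⊗ X).hom = s ≫ Y.hom
        rw [← Over.w (snd G X), reassoc_of% hws, ← Over.w π,
          pullback.condition_assoc, pointOfClosedPoint_comp_assoc])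
      have h1 : tZ ≫ τ g = tW ≫ a.act := by
        show tZ ≫ lift (zT ≫ g) zX ≫ a.act = tW ≫ a.act
        have hT : tZ ≫ zT = 𝟙 T := Over.OverMorphism.ext (pointOfClosedPoint_comp f x hxc)
        rw [comp_lift_assoc, reassoc_of% hT]
        congr 1
        apply CartesianMonoidalCategory.hom_ext
        · rw [lift_fst]; exact Over.OverMorphism.ext rfl
        · rw [lift_snd]; exact Over.OverMorphism.ext hws.symm
      exact congrArg CommaMorphism.left h1
    · rw [Category.assoc, pullback.lift_snd, pointOfClosedPoint_comp, pointOfClosedPoint_comp]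
  have hα' : (e g).hom x = y := by
    show α g x = y
    rw [← pointOfClosedPoint_apply f x hxc (IsLocalRing.closedPoint Ω), ← Scheme.Hom.comp_apply, hxα,
      pointOfClosedPoint_apply]
  haveI : IsIso (e g).hom := (e g).isIso_hom
  haveI : IsOpenImmersion (e g).hom := IsOpenImmersion.of_isIso _
  rw! [← hα', ← (e g).hom.mem_preimage, Scheme.Hom.preimage_smoothLocus_eq,
    show (e g).hom ≫ f = f from pullback.lift_snd _ _ _] at hy
  exact hx hy

theorem smooth_fiber (h : GIT.IsGeomQuot a π) (y : Y.left)
    (hred : IsReduced (pullback π.left (Spec.map (CommRingCat.ofHom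
      (algebraMap (Y.left.residueField y) (AlgebraicClosure (Y.left.residueField y)))) ≫
        Y.left.fromSpecResidueField y))) :
    Smooth (π.left.fiberToSpecResidueField y) := by
  let Ω : Type u := AlgebraicClosure (Y.left.residueField y)
  let g : Spec (CommRingCat.of Ω) ⟶ Spec (Y.left.residueField y) :=
    Spec.map (CommRingCat.ofHom (algebraMap (Y.left.residueField y) Ω))
  have hsm := smooth_geometricFibre h (g ≫ Y.left.fromSpecResidueField y)
  apply MorphismProperty.of_pullback_snd_of_descendsAlong
    (Q := @Surjective ⊓ @Flat ⊓ @QuasiCompact) (g := g)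
  · exact ⟨⟨inferInstance, inferInstance⟩, inferInstance⟩
  · show Smooth (pullback.snd (pullback.snd π.left (Y.left.fromSpecResidueField y)) g)
    rw [← pullbackLeftPullbackSndIso_hom_snd π.left (Y.left.fromSpecResidueField y) g]
    infer_instance

end GrothLib.GeomQuotFib21
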