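import Groth.Agent.GeomQuotFib21.Descent
import Groth.Agent.Lib.GeomQuotNormal13.Basic
import Groth.Agent.Lib.DiagGrp.ActionTrivial
import Groth.Agent.Lib.GeomRed6.Smooth
import Mathlib.AlgebraicGeometry.FunctionField
import Mathlib.AlgebraicGeometry.Morphisms.Smooth
import Mathlib.AlgebraicGeometry.Morphisms.UniversallyOpen
import Mathlib.RingTheory.Flat.FaithfullyFlat.Algebra
import Mathlib.RingTheory.Localization.BaseChange

/-!
# The generic fibre of a geometric quotient is geometrically reduced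
-/

set_option autoImplicit false
set_option linter.style.haveILetI false
set_option backward.isDefEq.respectTransparency false

universe u

open CategoryTheory CategoryTheory.Limits MonoidalCategory CartesianMonoidalCategory MonObj GrpObj AlgebraicGeometry
  TopologicalSpace TensorProduct

noncomputable section

namespace GrothLib.GeomQuotFib21

section RatFun

variable {X Z : Scheme.{u}} [IsIntegral X] (g : Z ⟶ X) [Flat g]
  {U : X.Opens} (hU : IsAffineOpen U) [Nonempty U] {V : Z.Opens} (e : V ≤ g ⁻¹ᵁ U)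

theorem appLE_mem_nonZeroDivisors {r : Γ(X, U)} (hr : r ≠ 0) :
    g.appLE U V e r ∈ nonZeroDivisors Γ(Z, V) :=
  mem_nonZeroDivisors_iff_right.2 fun t ht =>
    GrothLib.GeomQuotNormal13.eq_zero_of_mul_eq_zero g e hr t (by rw [CommMonoid.mul_comm]; exact ht)

/-- Pullback of rational functions along a flat morphism, into the total ring of fractions of an open. -/
def liftFF : X.functionField →+* FractionRing Γ(Z, V) :=
  haveI := functionField_isFractionRing_of_isAffineOpen X U hU
  IsLocalization.lift (M := nonZeroDivisors Γ(X, U))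
    (g := (algebraMap Γ(Z, V) (FractionRing Γ(Z, V))).comp (g.appLE U V e).hom) fun y =>
      IsLocalization.map_units (FractionRing Γ(Z, V))
        (⟨_, appLE_mem_nonZeroDivisors g e (nonZeroDivisors.ne_zero y.2)⟩ : nonZeroDivisors Γ(Z, V))

theorem liftFF_germ (r : Γ(X, U)) :
    liftFF g hU e (X.germToFunctionField U r) = algebraMap _ _ (g.appLE U V e r) := by
  haveI := functionField_isFractionRing_of_isAffineOpen X U hU
  exact IsLocalization.lift_eq _ r

theorem isGeometricallyReduced_liftFF [Smooth g] (hV : IsAffineOpen V) :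
    @Algebra.IsGeometricallyReduced X.functionField (FractionRing Γ(Z, V)) _ _
      (liftFF g hU e).toAlgebra := by
  haveI := functionField_isFractionRing_of_isAffineOpen X U hU
  let R := Γ(X, U)
  let B := Γ(Z, V)
  let E := FractionRing B
  let L := X.functionField
  letI : Algebra R B := (g.appLE U V e).hom.toAlgebra
  haveI : Algebra.Smooth R B := RingHom.smooth_algebraMap.mp (g.smooth_appLE hU hV e)
  letI : Algebra L E := (liftFF g hU e).toAlgebra
  haveI : IsScalarTower R L E := IsScalarTower.of_algebraMap_eq fun r =>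
    (IsScalarTower.algebraMap_apply R B E r).trans (liftFF_germ g hU e r).symm
  rw [Algebra.isGeometricallyReduced_field_iff]
  let Ω := AlgebraicClosure L
  haveI : _root_.IsReduced (Ω ⊗[R] B) := GrothLib.GeomRed6.isReduced_of_smooth_field Ω (Ω ⊗[R] B)
  let M := (nonZeroDivisors B).map (Algebra.TensorProduct.includeRight (R := R) (A := Ω) (B := B))
  haveI : _root_.IsReduced (Localization M) := isReduced_localizationPreserves M _ inferInstance
  let ε := IsLocalization.tensorProductEquivOfMapIncludeRight R Ω (nonZeroDivisors B) E (Localization M)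
  haveI : _root_.IsReduced (Ω ⊗[R] E) := isReduced_of_injective ε ε.injective
  haveI := IsLocalization.tensorProduct_compatibleSMul (nonZeroDivisors R) L Ω E
  exact isReduced_of_injective (Algebra.TensorProduct.equivOfCompatibleSMul R L R Ω E)
    (Algebra.TensorProduct.equivOfCompatibleSMul R L R Ω E).injective

end RatFun

section Glue

variable (X : Scheme.{u}) [IsIntegral X]

theorem genericPoint_mem {W : X.Opens} (hW : (W : Set X).Nonempty) : genericPoint X ∈ W :=
  ((genericPoint_spec X).mem_open_set_iff W.2).mpr (by simpa using hW)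

theorem exists_germ_eq_of_forall_stalk (f : X.functionField) (W : X.Opens) (hW : genericPoint X ∈ W)
    (h : ∀ x ∈ W, ∃ c : X.presheaf.stalk x,
      X.presheaf.stalkSpecializes ((genericPoint_spec X).specializes trivial : genericPoint X ⤳ x) c = f) :
    ∃ s : Γ(X, W), X.presheaf.germ W (genericPoint X) hW s = f := by
  choose c hc using fun x : W => h x.1 x.2
  choose U₀ hU₀ t ht using fun x : W => X.presheaf.exists_germ_eq (c x)
  let U : W → X.Opens := fun x => U₀ x ⊓ W
  let i : ∀ x : W, U x ⟶ W := fun x => homOfLE inf_le_right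
  let sf : ∀ x : W, Γ(X, U x) := fun x => X.presheaf.map (homOfLE inf_le_left).op (t x)
  have hξ : ∀ x : W, genericPoint X ∈ U x := fun x => genericPoint_mem X ⟨x.1, hU₀ x, x.2⟩
  have hgerm : ∀ x : W, X.presheaf.germ (U x) (genericPoint X) (hξ x) (sf x) = f := by
    intro x
    rw [← hc x, ← ht x, TopCat.Presheaf.germ_res_apply, TopCat.Presheaf.germ_stalkSpecializes_apply]
  have hcomp : TopCat.Presheaf.IsCompatible X.presheaf U sf := by
    intro x y
    haveI : Nonempty (U x ⊓ U y : X.Opens) := ⟨⟨_, hξ x, hξ y⟩⟩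
    apply germ_injective_of_isIntegral X (genericPoint X) (U := U x ⊓ U y) ⟨hξ x, hξ y⟩
    refine (TopCat.Presheaf.germ_res_apply X.presheaf (Opens.infLELeft (U x) (U y)) _ ⟨hξ x, hξ y⟩ (sf x)).trans
      ((hgerm x).trans ((hgerm y).symm.trans ?_))
    exact (TopCat.Presheaf.germ_res_apply X.presheaf (Opens.infLERight (U x) (U y)) _ ⟨hξ x, hξ y⟩ (sf y)).symm
  obtain ⟨s, hs, -⟩ := X.sheaf.existsUnique_gluing' U W i
    (fun x hx => Opens.mem_iSup.2 ⟨⟨x, hx⟩, hU₀ ⟨x, hx⟩, hx⟩) sf hcomp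
  refine ⟨s, ?_⟩
  rw [← hgerm ⟨_, hW⟩, ← hs ⟨_, hW⟩]
  exact (TopCat.Presheaf.germ_res_apply X.presheaf _ _ _ _).symm

end Glue

section Shear

variable {S : Scheme.{u}} {G X : Over S} [GrpObj G] (a : AlgGrp.Action G X)

/-- The involution `(g, x) ↦ (g⁻¹, g x)`. -/
def shear : G ⊗ X ≅ G ⊗ X where
  hom := lift (fst G X)⁻¹ a.act
  inv := lift (fst G X)⁻¹ a.act
  hom_inv_id := by
    rw [comp_lift, GrpObj.comp_inv, lift_fst, _root_.inv_inv,
      show a.act = lift (fst G X) (snd G X) ≫ a.act by rw [lift_fst_snd, Category.id_comp],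
      comp_lift_assoc, lift_fst, lift_snd, ← GrothLib.DiagGrp.act_mul a]
    simp [GrothLib.DiagGrp.act_one]
  inv_hom_id := by
    rw [comp_lift, GrpObj.comp_inv, lift_fst, _root_.inv_inv,
      show a.act = lift (fst G X) (snd G X) ≫ a.act by rw [lift_fst_snd, Category.id_comp],
      comp_lift_assoc, lift_fst, lift_snd, ← GrothLib.DiagGrp.act_mul a]
    simp [GrothLib.DiagGrp.act_one]

theorem flat_act [Flat (snd G X).left] : Flat a.act.left := by
  rw [show a.act = (shear a).hom ≫ snd G X by simp [shear], Over.comp_left]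
  haveI : IsIso (shear a).hom.left := inferInstanceAs (IsIso ((Over.forget S).map (shear a).hom))
  infer_instance

end Shear

section Main

variable {S : Scheme.{u}} {G X Y : Over S} [GrpObj G] {a : AlgGrp.Action G X} {π : X ⟶ Y}
  [IsIntegral X.left] [IsIntegral Y.left] [Smooth (snd G X).left]

set_option maxHeartbeats 1600000 in
theorem isReduced_pullback_of_generic (h : GIT.IsGeomQuot a π) {Ω : Type u} [Field Ω]
    (s : Spec (CommRingCat.of Ω) ⟶ Y.left) (hs : s (IsLocalRing.closedPoint Ω) = genericPoint Y.left) :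
    AlgebraicGeometry.IsReduced (pullback π.left s) := by
  haveI : Flat a.act.left := flat_act a
  obtain ⟨Y₀, hY₀, hηY, -⟩ := exists_isAffineOpen_mem_and_subset
    (U := (⊤ : Y.left.Opens)) (x := genericPoint Y.left) trivial
  haveI : Nonempty Y₀ := ⟨⟨_, hηY⟩⟩
  let A := Γ(Y.left, Y₀)
  have hne : ∀ W : Y.left.Opens, (W : Set Y.left).Nonempty → genericPoint X.left ∈ π.left ⁻¹ᵁ W := by
    rintro W ⟨y, hy⟩
    obtain ⟨x, rfl⟩ := h.surj y
    exact genericPoint_mem X.left ⟨x, hy⟩
  let θ (W : Y.left.Opens) (hW : genericPoint X.left ∈ π.left ⁻¹ᵁ W) : Γ(Y.left, W) →+* X.left.functionField :=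
    (π.left.app W ≫ X.left.presheaf.germ (π.left ⁻¹ᵁ W) (genericPoint X.left) hW).hom
  have hθres : ∀ (W W' : Y.left.Opens) (hle : W' ≤ W) (hW hW') (c : Γ(Y.left, W)),
      θ W' hW' (Y.left.presheaf.map (homOfLE hle).op c) = θ W hW c := by
    intro W W' hle hW hW' c
    show X.left.presheaf.germ _ _ _ (π.left.app W' (Y.left.presheaf.map (homOfLE hle).op c)) = _
    rw [← CommRingCat.comp_apply (Y.left.presheaf.map _) (π.left.app W'), Scheme.Hom.naturality,
      CommRingCat.comp_apply, TopCat.Presheaf.germ_res_apply]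
    rfl
  have hP₀ : genericPoint X.left ∈ π.left ⁻¹ᵁ Y₀ := hne Y₀ ⟨_, hηY⟩
  haveI : Nonempty (π.left ⁻¹ᵁ Y₀ : X.left.Opens) := ⟨⟨_, hP₀⟩⟩
  have hθinj : Function.Injective (θ Y₀ hP₀) :=
    (germ_injective_of_isIntegral X.left _ _).comp (h.sections Y₀).1
  let F := FractionRing A
  let lF : F →+* X.left.functionField := IsFractionRing.lift hθinj
  letI : Algebra F X.left.functionField := lF.toAlgebra
  let Idx := { t : X.left.affineOpens × X.left.affineOpens × (G ⊗ X).left.affineOpens //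
      genericPoint X.left ∈ t.1.1 ∧ genericPoint X.left ∈ t.2.1.1 ∧ t.1.1 ≤ π.left ⁻¹ᵁ Y₀ ∧
      t.2.1.1 ≤ π.left ⁻¹ᵁ Y₀ ∧ t.2.2.1 ≤ a.act.left ⁻¹ᵁ t.1.1 ∧ t.2.2.1 ≤ (snd G X).left ⁻¹ᵁ t.2.1.1 }
  haveI hn1 : ∀ t : Idx, Nonempty t.1.1.1 := fun t => ⟨⟨_, t.2.1⟩⟩
  haveI hn2 : ∀ t : Idx, Nonempty t.1.2.1.1 := fun t => ⟨⟨_, t.2.2.1⟩⟩
  let E : Idx → Type u := fun t => FractionRing Γ((G ⊗ X).left, t.1.2.2.1)
  let aE : ∀ t, X.left.functionField →+* E t := fun t => liftFF a.act.left t.1.1.2 t.2.2.2.2.2.1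
  let pE : ∀ t, X.left.functionField →+* E t := fun t => liftFF (snd G X).left t.1.2.1.2 t.2.2.2.2.2.2
  have hF : ∀ t c, aE t (algebraMap F X.left.functionField c) = pE t (algebraMap F X.left.functionField c) := by
    intro t
    refine RingHom.congr_fun (f := (aE t).comp lF) (g := (pE t).comp lF)
      (IsLocalization.ringHom_ext (nonZeroDivisors A) (RingHom.ext fun r => ?_))
    show aE t (lF (algebraMap A F r)) = pE t (lF (algebraMap A F r))
    rw [IsFractionRing.lift_algebraMap]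
    obtain ⟨⟨⟨U₁, hU₁⟩, ⟨U₂, hU₂⟩, ⟨V, hV⟩⟩, hξ₁, hξ₂, hl₁, hl₂, e₁, e₂⟩ := t
    haveI : Nonempty U₁ := ⟨⟨_, hξ₁⟩⟩
    haveI : Nonempty U₂ := ⟨⟨_, hξ₂⟩⟩
    have hg : ∀ (U' : X.left.Opens) (hξ : genericPoint X.left ∈ U') (hl : U' ≤ π.left ⁻¹ᵁ Y₀),
        θ Y₀ hP₀ r = X.left.presheaf.germ U' _ hξ (π.left.appLE Y₀ U' hl r) := by
      intro U' hξ hl
      rw [Scheme.Hom.appLE, CommRingCat.comp_apply]
      exact (TopCat.Presheaf.germ_res_apply X.left.presheaf (homOfLE hl) _ hξ (π.left.app Y₀ r)).symm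
    have h1 : liftFF a.act.left hU₁ e₁ (θ Y₀ hP₀ r) = algebraMap _ (FractionRing Γ((G ⊗ X).left, V)) (a.act.left.appLE U₁ V e₁ (π.left.appLE Y₀ U₁ hl₁ r)) := by
      rw [hg U₁ hξ₁ hl₁]; exact liftFF_germ a.act.left hU₁ e₁ _
    have h2 : liftFF (snd G X).left hU₂ e₂ (θ Y₀ hP₀ r) = algebraMap _ (FractionRing Γ((G ⊗ X).left, V)) ((snd G X).left.appLE U₂ V e₂ (π.left.appLE Y₀ U₂ hl₂ r)) := by
      rw [hg U₂ hξ₂ hl₂]; exact liftFF_germ (snd G X).left hU₂ e₂ _
    refine Eq.trans h1 (Eq.trans (congrArg _ ?_) h2.symm)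
    rw [← CommRingCat.comp_apply, ← CommRingCat.comp_apply, Scheme.Hom.appLE_comp_appLE,
      Scheme.Hom.appLE_comp_appLE]
    simp_rw [h.inv.left]
  have hp : ∀ t, @Algebra.IsGeometricallyReduced X.left.functionField (E t) _ _ (pE t).toAlgebra :=
    fun t => isGeometricallyReduced_liftFF (snd G X).left t.1.2.1.2 t.2.2.2.2.2.2 t.1.2.2.2
  have heq : ∀ f : X.left.functionField, (∀ t, aE t f = pE t f) →
      f ∈ (algebraMap F X.left.functionField).range := by
    intro f hf
    obtain ⟨W₁, hW₁, s₀, hs₀⟩ := X.left.presheaf.exists_germ_eq f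
    obtain ⟨U, hU, hξU, hUle⟩ := exists_isAffineOpen_mem_and_subset
      (U := W₁ ⊓ π.left ⁻¹ᵁ Y₀) (x := genericPoint X.left) ⟨hW₁, hP₀⟩
    have hUW : U ≤ W₁ := fun x hx => (hUle hx).1
    have hUP : U ≤ π.left ⁻¹ᵁ Y₀ := fun x hx => (hUle hx).2
    haveI : Nonempty U := ⟨⟨_, hξU⟩⟩
    let σ : Γ(X.left, U) := X.left.presheaf.map (homOfLE hUW).op s₀
    have hσ : X.left.germToFunctionField U σ = f := by
      rw [← hs₀]; exact TopCat.Presheaf.germ_res_apply X.left.presheaf _ _ _ _
    haveI : UniversallyOpen (snd G X).left := inferInstance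
    let U' : X.left.Opens :=
      ⟨(snd G X).left '' (a.act.left ⁻¹ᵁ U : (G ⊗ X).left.Opens),
        (snd G X).left.isOpenMap _ (a.act.left ⁻¹ᵁ U).2⟩
    have hU'eq : (U' : Set X.left) = π.left ⁻¹' (π.left '' (U : Set X.left)) := by
      ext x
      constructor
      · rintro ⟨z, hz, rfl⟩
        refine ⟨a.act.left z, hz, ?_⟩
        rw [← Scheme.Hom.comp_apply, ← Scheme.Hom.comp_apply, h.inv.left]
      · rintro ⟨u, hu, hux⟩
        obtain ⟨w, hw₁, hw₂⟩ := Scheme.Pullback.exists_preimage_pullback (f := π.left) (g := π.left) u x hux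
        obtain ⟨z, rfl⟩ := h.orbit w
        refine ⟨z, ?_, ?_⟩
        · show a.act.left z ∈ U
          have e : a.act.left = GIT.PsiY a π h.inv ≫ pullback.fst π.left π.left :=
            (pullback.lift_fst _ _ _).symm
          rw [e, Scheme.Hom.comp_apply, hw₁]
          exact hu
        · have e : (snd G X).left = GIT.PsiY a π h.inv ≫ pullback.snd π.left π.left :=
            (pullback.lift_snd _ _ _).symm
          rw [e, Scheme.Hom.comp_apply, hw₂]
    have hq : Topology.IsQuotientMap π.left.base :=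
      MorphismProperty.universally_le (P := topologically @Topology.IsQuotientMap) _ h.subm
    let V₀ : Y.left.Opens := ⟨π.left '' (U : Set X.left), hq.isOpen_preimage.1 (hU'eq ▸ U'.2)⟩
    have hV₀ : π.left ⁻¹ᵁ V₀ = U' := Opens.ext hU'eq.symm
    have hV₀Y : V₀ ≤ Y₀ := by
      rintro _ ⟨u, hu, rfl⟩
      exact hUP hu
    have hξU' : genericPoint X.left ∈ U' := by
      rw [← hV₀]; exact hne V₀ ⟨_, _, hξU, rfl⟩
    -- `f` is regular on the saturation of `U`
    have hreg : ∀ x ∈ U', ∃ c : X.left.presheaf.stalk x,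
        X.left.presheaf.stalkSpecializes
          ((genericPoint_spec X.left).specializes trivial : genericPoint X.left ⤳ x) c = f := by
      intro x hx
      obtain ⟨z, hz, rfl⟩ := id hx
      have hxP : (snd G X).left z ∈ π.left ⁻¹ᵁ Y₀ := hV₀Y (hV₀.symm ▸ hx : (snd G X).left z ∈ π.left ⁻¹ᵁ V₀)
      obtain ⟨U₂, hU₂, hxU₂, hU₂P⟩ := exists_isAffineOpen_mem_and_subset hxP
      have hξ₂ : genericPoint X.left ∈ U₂ := genericPoint_mem X.left ⟨_, hxU₂⟩
      haveI : Nonempty U₂ := ⟨⟨_, hξ₂⟩⟩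
      obtain ⟨V, hV, hzV, hVle⟩ := exists_isAffineOpen_mem_and_subset
        (U := a.act.left ⁻¹ᵁ U ⊓ (snd G X).left ⁻¹ᵁ U₂) (x := z) ⟨hz, hxU₂⟩
      have e₁ : V ≤ a.act.left ⁻¹ᵁ U := fun w hw => (hVle hw).1
      have e₂ : V ≤ (snd G X).left ⁻¹ᵁ U₂ := fun w hw => (hVle hw).2
      have ht : liftFF a.act.left hU e₁ f = liftFF (snd G X).left hU₂ e₂ f :=
        hf ⟨(⟨U, hU⟩, ⟨U₂, hU₂⟩, ⟨V, hV⟩), hξU, hξ₂, hUP, hU₂P, e₁, e₂⟩
      haveI := functionField_isFractionRing_of_isAffineOpen X.left U₂ hU₂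
      obtain ⟨⟨num, den⟩, hnd⟩ := IsLocalization.surj (nonZeroDivisors Γ(X.left, U₂)) f
      change f * X.left.germToFunctionField U₂ (den : Γ(X.left, U₂)) = X.left.germToFunctionField U₂ num at hnd
      have h3 : a.act.left.appLE U V e₁ σ * (snd G X).left.appLE U₂ V e₂ (den : Γ(X.left, U₂)) =
          (snd G X).left.appLE U₂ V e₂ num := by
        apply IsFractionRing.injective Γ((G ⊗ X).left, V) (FractionRing Γ((G ⊗ X).left, V))
        rw [map_mul, ← liftFF_germ a.act.left hU e₁, hσ, ht, ← liftFF_germ (snd G X).left hU₂ e₂,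
          ← map_mul, hnd, liftFF_germ]
      let p := (snd G X).left.stalkMap z
      have h4 := congrArg ((G ⊗ X).left.presheaf.germ V z hzV) h3
      have hgA : ∀ r : Γ(X.left, U₂), (G ⊗ X).left.presheaf.germ V z hzV ((snd G X).left.appLE U₂ V e₂ r) =
          p (X.left.presheaf.germ U₂ _ hxU₂ r) := by
        intro r
        rw [Scheme.Hom.appLE, CommRingCat.comp_apply, TopCat.Presheaf.germ_res_apply,
          Scheme.Hom.germ_stalkMap_apply]
      rw [map_mul, hgA, hgA] at h4
      letI := p.hom.toAlgebra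
      haveI : Module.Flat (X.left.presheaf.stalk ((snd G X).left z)) ((G ⊗ X).left.presheaf.stalk z) :=
        Flat.stalkMap (snd G X).left z
      haveI : IsLocalHom (algebraMap (X.left.presheaf.stalk ((snd G X).left z)) ((G ⊗ X).left.presheaf.stalk z)) :=
        (snd G X).left.toLRSHom.prop z
      haveI := Module.FaithfullyFlat.of_flat_of_isLocalHom
        (A := X.left.presheaf.stalk ((snd G X).left z)) (B := (G ⊗ X).left.presheaf.stalk z)
      let I := Ideal.span {X.left.presheaf.germ U₂ _ hxU₂ (den : Γ(X.left, U₂))}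
      have h5 : X.left.presheaf.germ U₂ _ hxU₂ num ∈ I := by
        rw [← Ideal.comap_map_eq_self_of_faithfullyFlat (B := (G ⊗ X).left.presheaf.stalk z) I,
          Ideal.mem_comap, Ideal.map_span, Set.image_singleton, Ideal.mem_span_singleton]
        exact ⟨_, h4.symm.trans (CommMonoid.mul_comm _ _)⟩
      obtain ⟨c, hc⟩ := Ideal.mem_span_singleton.1 h5
      refine ⟨c, ?_⟩
      let spz := X.left.presheaf.stalkSpecializes
        ((genericPoint_spec X.left).specializes trivial : genericPoint X.left ⤳ (snd G X).left z)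
      have h6 : ∀ r : Γ(X.left, U₂), spz (X.left.presheaf.germ U₂ _ hxU₂ r) = X.left.germToFunctionField U₂ r :=
        fun r => TopCat.Presheaf.germ_stalkSpecializes_apply X.left.presheaf hxU₂ _ r
      have h7 := congrArg spz hc
      rw [map_mul, h6, h6, ← hnd, CommMonoid.mul_comm f] at h7
      refine (mul_left_cancel₀ ?_ h7).symm
      exact (map_ne_zero_iff _ (X.left.germToFunctionField_injective U₂)).2 (nonZeroDivisors.ne_zero den.2)
    obtain ⟨s', hs'⟩ := exists_germ_eq_of_forall_stalk X.left f U' hξU' hreg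
    -- the section is invariant
    let P := π.left ⁻¹ᵁ V₀
    have hξP : genericPoint X.left ∈ P := by
      show genericPoint X.left ∈ π.left ⁻¹ᵁ V₀
      rw [hV₀]; exact hξU'
    obtain ⟨s'', hs''⟩ : ∃ s'' : Γ(X.left, P), X.left.presheaf.germ P _ hξP s'' = f :=
      ⟨X.left.presheaf.map (eqToHom hV₀).op s', by
        rw [← hs']; exact TopCat.Presheaf.germ_res_apply X.left.presheaf _ _ _ _⟩
    have hinv : GIT.IsInvSection a π V₀ s'' := by
      refine TopCat.Presheaf.section_ext (G ⊗ X).left.sheaf _ _ _ fun z hz => ?_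
      obtain ⟨U₁, hU₁, hz₁, hU₁P⟩ := exists_isAffineOpen_mem_and_subset (show a.act.left z ∈ P from hz.1)
      obtain ⟨U₂, hU₂, hz₂, hU₂P⟩ := exists_isAffineOpen_mem_and_subset (show (snd G X).left z ∈ P from hz.2)
      obtain ⟨V, hV, hzV, hVle⟩ := exists_isAffineOpen_mem_and_subset
        (U := (a.act.left ⁻¹ᵁ P ⊓ (snd G X).left ⁻¹ᵁ P) ⊓ (a.act.left ⁻¹ᵁ U₁ ⊓ (snd G X).left ⁻¹ᵁ U₂))
        (x := z) ⟨hz, hz₁, hz₂⟩
      have e₁ : V ≤ a.act.left ⁻¹ᵁ U₁ := fun w hw => (hVle hw).2.1
      have e₂ : V ≤ (snd G X).left ⁻¹ᵁ U₂ := fun w hw => (hVle hw).2.2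
      have e₀ : V ≤ a.act.left ⁻¹ᵁ P ⊓ (snd G X).left ⁻¹ᵁ P := fun w hw => (hVle hw).1
      have hξ₁ : genericPoint X.left ∈ U₁ := genericPoint_mem X.left ⟨_, hz₁⟩
      have hξ₂ : genericPoint X.left ∈ U₂ := genericPoint_mem X.left ⟨_, hz₂⟩
      haveI : Nonempty U₁ := ⟨⟨_, hξ₁⟩⟩
      haveI : Nonempty U₂ := ⟨⟨_, hξ₂⟩⟩
      have hU₁Y : U₁ ≤ π.left ⁻¹ᵁ Y₀ := fun w hw => hV₀Y (hU₁P hw)
      have hU₂Y : U₂ ≤ π.left ⁻¹ᵁ Y₀ := fun w hw => hV₀Y (hU₂P hw)
      have ht : liftFF a.act.left hU₁ e₁ f = liftFF (snd G X).left hU₂ e₂ f :=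
        hf ⟨(⟨U₁, hU₁⟩, ⟨U₂, hU₂⟩, ⟨V, hV⟩), hξ₁, hξ₂, hU₁Y, hU₂Y, e₁, e₂⟩
      have hr₁ : X.left.germToFunctionField U₁ (X.left.presheaf.map (homOfLE hU₁P).op s'') = f := by
        rw [← hs'']; exact TopCat.Presheaf.germ_res_apply X.left.presheaf _ _ _ _
      have hr₂ : X.left.germToFunctionField U₂ (X.left.presheaf.map (homOfLE hU₂P).op s'') = f := by
        rw [← hs'']; exact TopCat.Presheaf.germ_res_apply X.left.presheaf _ _ _ _
      have h3 : a.act.left.appLE U₁ V e₁ (X.left.presheaf.map (homOfLE hU₁P).op s'') =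
          (snd G X).left.appLE U₂ V e₂ (X.left.presheaf.map (homOfLE hU₂P).op s'') := by
        apply IsFractionRing.injective Γ((G ⊗ X).left, V) (FractionRing Γ((G ⊗ X).left, V))
        rw [← liftFF_germ a.act.left hU₁ e₁, ← liftFF_germ (snd G X).left hU₂ e₂, hr₁, hr₂, ht]
      rw [← CommRingCat.comp_apply, ← CommRingCat.comp_apply, Scheme.Hom.map_appLE, Scheme.Hom.map_appLE] at h3
      show (G ⊗ X).left.presheaf.germ (a.act.left ⁻¹ᵁ P ⊓ (snd G X).left ⁻¹ᵁ P) z hz _ =
        (G ⊗ X).left.presheaf.germ (a.act.left ⁻¹ᵁ P ⊓ (snd G X).left ⁻¹ᵁ P) z hz _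
      have key : ∀ (g : (G ⊗ X).left ⟶ X.left) (e : a.act.left ⁻¹ᵁ P ⊓ (snd G X).left ⁻¹ᵁ P ≤ g ⁻¹ᵁ P),
          (G ⊗ X).left.presheaf.germ (a.act.left ⁻¹ᵁ P ⊓ (snd G X).left ⁻¹ᵁ P) z hz (g.appLE P _ e s'') =
            (G ⊗ X).left.presheaf.germ V z hzV (g.appLE P V (e₀.trans e) s'') := by
        intro g e
        rw [← Scheme.Hom.appLE_map g e (homOfLE e₀).op]
        exact (TopCat.Presheaf.germ_res_apply (G ⊗ X).left.presheaf (homOfLE e₀) z hzV _).symm
      exact (key a.act.left inf_le_left).trans ((congrArg _ h3).trans (key (snd G X).left inf_le_right).symm)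
    obtain ⟨c, hc⟩ := (h.sections V₀).2.superset hinv
    -- write it as a fraction
    obtain ⟨u, hu⟩ : (V₀ : Set Y.left).Nonempty := ⟨_, _, hξU, rfl⟩
    obtain ⟨d, hdV, hud⟩ := hY₀.exists_basicOpen_le ⟨u, hu⟩ (hV₀Y hu)
    haveI := hY₀.isLocalization_basicOpen d
    obtain ⟨⟨n, ⟨m, k, rfl⟩⟩, hnm⟩ := IsLocalization.surj (Submonoid.powers d)
      (Y.left.presheaf.map (homOfLE hdV).op c)
    have hξD : genericPoint X.left ∈ π.left ⁻¹ᵁ Y.left.basicOpen d := hne _ ⟨u, hud⟩
    have h8 := congrArg (θ _ hξD) hnm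
    rw [map_mul, RingHom.algebraMap_toAlgebra] at h8
    change θ _ hξD _ * θ _ hξD (Y.left.presheaf.map (homOfLE (Y.left.basicOpen_le d)).op (d ^ k)) =
      θ _ hξD (Y.left.presheaf.map (homOfLE (Y.left.basicOpen_le d)).op n) at h8
    rw [hθres V₀ _ hdV hξP, hθres Y₀ _ _ hP₀, hθres Y₀ _ _ hP₀] at h8
    have h9 : θ V₀ hξP c = f := by
      show X.left.presheaf.germ P _ hξP (π.left.app V₀ c) = f
      rw [hc, hs'']
    rw [h9] at h8
    have hd0 : d ^ k ≠ 0 := pow_ne_zero _ fun e => by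
      subst e
      simp at hud
    refine ⟨algebraMap A F n / algebraMap A F (d ^ k), ?_⟩
    show lF _ = f
    rw [map_div₀, IsFractionRing.lift_algebraMap, IsFractionRing.lift_algebraMap,
      div_eq_iff ((map_ne_zero_iff _ hθinj).2 hd0), h8]
  -- the point factors through `Y₀`
  have hrange : Set.range s ⊆ Set.range hY₀.fromSpec := by
    rintro _ ⟨x, rfl⟩
    rw [hY₀.range_fromSpec, Subsingleton.elim x (IsLocalRing.closedPoint Ω), hs]
    exact hηY
  obtain ⟨φ, hφ⟩ : ∃ φ : A ⟶ CommRingCat.of Ω, Spec.map φ ≫ hY₀.fromSpec = s :=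
    ⟨Spec.preimage (IsOpenImmersion.lift hY₀.fromSpec s hrange), by
      rw [Spec.map_preimage, IsOpenImmersion.lift_fac]⟩
  have hφinj : Function.Injective φ.hom := by
    rw [RingHom.injective_iff_ker_eq_bot]
    have h1 : hY₀.fromSpec (Spec.map φ (IsLocalRing.closedPoint Ω)) = hY₀.fromSpec (genericPoint (Spec A)) := by
      rw [← Scheme.Hom.comp_apply, hφ, hs, genericPoint_eq_of_isOpenImmersion]
    have h2 := hY₀.fromSpec.isOpenEmbedding.injective h1
    rw [genericPoint_eq_bot_of_affine] at h2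
    have h3 := congrArg PrimeSpectrum.asIdeal h2
    change Ideal.comap φ.hom (IsLocalRing.maximalIdeal Ω) = ⊥ at h3
    rwa [IsLocalRing.maximalIdeal_eq_bot] at h3
  letI : Algebra A Ω := φ.hom.toAlgebra
  letI : Algebra F Ω := (IsFractionRing.lift hφinj).toAlgebra
  haveI : IsScalarTower A F Ω := IsScalarTower.of_algebraMap_eq fun r => (IsFractionRing.lift_algebraMap hφinj r).symm
  haveI hred : _root_.IsReduced (X.left.functionField ⊗[F] Ω) :=
    isReduced_tensor_of_equalizer aE pE hF hp heq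
  haveI : Module.Flat A F := IsLocalization.flat F (nonZeroDivisors A)
  haveI : Module.Flat A Ω := Module.Flat.trans A F Ω
  -- local rings
  suffices H : ∀ z : ↥(pullback π.left s), _root_.IsReduced ((pullback π.left s).presheaf.stalk z) by
    exact isReduced_of_isReduced_stalk _
  intro z
  have hxP : pullback.fst π.left s z ∈ π.left ⁻¹ᵁ Y₀ := by
    show π.left (pullback.fst π.left s z) ∈ Y₀
    rw [← Scheme.Hom.comp_apply, pullback.condition, Scheme.Hom.comp_apply,
      Subsingleton.elim (pullback.snd π.left s z) (IsLocalRing.closedPoint Ω), hs]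
    exact hηY
  obtain ⟨U, hU, hzU, hUP⟩ := exists_isAffineOpen_mem_and_subset hxP
  have hξU : genericPoint X.left ∈ U := genericPoint_mem X.left ⟨_, hzU⟩
  haveI : Nonempty U := ⟨⟨_, hξU⟩⟩
  let R := Γ(X.left, U)
  let ρ : A ⟶ R := π.left.appLE Y₀ U hUP
  letI : Algebra A R := ρ.hom.toAlgebra
  letI : Algebra A X.left.functionField := (θ Y₀ hP₀).toAlgebra
  haveI : IsScalarTower A F X.left.functionField :=
    IsScalarTower.of_algebraMap_eq fun r => (IsFractionRing.lift_algebraMap hθinj r).symm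
  let jl : R →ₐ[A] X.left.functionField :=
    { (X.left.germToFunctionField U).hom with
      commutes' := fun r => by
        show X.left.germToFunctionField U (π.left.appLE Y₀ U hUP r) = _
        rw [Scheme.Hom.appLE, CommRingCat.comp_apply]
        exact TopCat.Presheaf.germ_res_apply X.left.presheaf _ _ _ _ }
  haveI : _root_.IsReduced (X.left.functionField ⊗[A] Ω) := by
    haveI := IsLocalization.tensorProduct_compatibleSMul (nonZeroDivisors A) F X.left.functionField Ω
    exact isReduced_of_injective (Algebra.TensorProduct.equivOfCompatibleSMul F A A X.left.functionField Ω)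
      (Algebra.TensorProduct.equivOfCompatibleSMul F A A X.left.functionField Ω).injective
  haveI : _root_.IsReduced (R ⊗[A] Ω) :=
    isReduced_of_injective (Algebra.TensorProduct.map jl (AlgHom.id A Ω))
      (Module.Flat.rTensor_preserves_injective_linearMap (M := Ω) jl.toLinearMap
        (X.left.germToFunctionField_injective U))
  have hfac : hU.fromSpec ≫ π.left = Spec.map ρ ≫ hY₀.fromSpec :=
    (IsAffineOpen.SpecMap_appLE_fromSpec π.left hY₀ hU hUP).symm
  haveI : AlgebraicGeometry.IsReduced (pullback (hU.fromSpec ≫ π.left) s) := by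
    rw [hfac, ← hφ]
    haveI : AlgebraicGeometry.IsReduced (pullback (Spec.map ρ) (Spec.map φ)) := by
      haveI : AlgebraicGeometry.IsReduced (Spec (CommRingCat.of (R ⊗[A] Ω))) :=
        (affine_isReduced_iff _).2 inferInstance
      exact isReduced_of_isOpenImmersion (pullbackSpecIso A R Ω).hom
    haveI : AlgebraicGeometry.IsReduced (PullbackCone.mk (pullback.fst (Spec.map ρ) (Spec.map φ))
        (pullback.snd (Spec.map ρ) (Spec.map φ)) (show pullback.fst (Spec.map ρ) (Spec.map φ) ≫ Spec.map ρ ≫ hY₀.fromSpec =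
          pullback.snd (Spec.map ρ) (Spec.map φ) ≫ Spec.map φ ≫ hY₀.fromSpec by rw [pullback.condition_assoc])).pt :=
      ‹AlgebraicGeometry.IsReduced (pullback (Spec.map ρ) (Spec.map φ))›
    exact isReduced_of_isOpenImmersion (IsPullback.of_isLimit
      (pullbackIsPullbackOfCompMono (Spec.map ρ) (Spec.map φ) hY₀.fromSpec)).isoPullback.inv
  let j := pullback.snd hU.fromSpec (pullback.fst π.left s)
  haveI : AlgebraicGeometry.IsReduced (pullback hU.fromSpec (pullback.fst π.left s)) := by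
    have hsq := (IsPullback.of_hasPullback hU.fromSpec (pullback.fst π.left s)).flip.paste_horiz
      (IsPullback.of_hasPullback π.left s).flip
    exact isReduced_of_isOpenImmersion hsq.flip.isoPullback.hom
  obtain ⟨u, hu⟩ : pullback.fst π.left s z ∈ Set.range hU.fromSpec := by
    rw [hU.range_fromSpec]; exact hzU
  obtain ⟨w, -, hw⟩ := Scheme.Pullback.exists_preimage_pullback
    (f := hU.fromSpec) (g := pullback.fst π.left s) u z hu
  haveI : IsIso (j.stalkMap w) := inferInstance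
  rw [← hw]
  exact isReduced_of_injective (asIso (j.stalkMap w)).commRingCatIsoToRingEquiv
    (asIso (j.stalkMap w)).commRingCatIsoToRingEquiv.injective

end Main

end GrothLib.GeomQuotFib21
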